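import Groth.Agent.H02CA.SysBounded.Main
import Groth.Agent.H02CA.SkyExt.FixPoints

/-!
# The points of a kernel of the identity
-/

set_option autoImplicit false
set_option linter.style.haveILetI false
set_option backward.isDefEq.respectTransparency false
set_option maxHeartbeats 1000000

universe u

open CategoryTheory CategoryTheory.Limits AlgebraicGeometry TensorProduct

attribute [local instance] HasDerivedCategory.standard

noncomputable section

namespace Groth.Agent.H02CA.DiagKer

open Groth.Agent.H02CA.SysBounded Groth.Agent.H16Derived Groth.Agent.H16Derived.KFlat Groth.Agent.H16Derived.KFlat.Stalk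

variable {P X : Scheme.{u}}


/-- Vanishing of a stalk of the cohomology of the derived fibre gives vanishing there. -/
theorem notMem_support_of_fibre_stalk [IsLocallyNoetherian P] [IsLocallyNoetherian X] (π : P ⟶ X) [Flat π] (x : X)
    [DCoh.HasLpull (π.fiberι x)] (K : DCoh.D P) (hK : DCoh.IsPerfect K) (i : ℤ)
    (q : π.fiber x)
    (h : IsZero ((DerSch.stalkFunctor (π.fiber x) q).obj (DCoh.HD ((DCoh.Lpull (π.fiberι x)).obj K) i))) :
    (π.fiberι x).base q ∉ CohB1.support (DCoh.HD K i) := by
  let z := (π.fiberι x).base q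
  have hz : π.base z = x := by
    have : z ∈ Set.range (π.fiberι x).base := ⟨q, rfl⟩
    rwa [Scheme.Hom.range_fiberι π x] at this
  obtain ⟨W, hzW, S, hS, ⟨α⟩⟩ := (isPerfect_iff K).1 hK z
  let π' := W.ι ≫ π
  let f := π'.fiberι x
  obtain ⟨p, hp⟩ : (⟨z, hzW⟩ : W) ∈ Set.range f.base :=
    (Scheme.Hom.range_fiberι π' x).symm ▸ (show π'.base ⟨z, hzW⟩ = x from hz)
  let g : π'.fiber x ⟶ π.fiber x :=
    (pullbackRightPullbackFstIso π (X.fromSpecResidueField x) W.ι).inv ≫ pullback.snd _ _
  haveI : IsOpenImmersion g := by dsimp only [g]; infer_instance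
  have hg : g ≫ π.fiberι x = f ≫ W.ι := by
    simp only [g, f, Category.assoc]
    erw [← pullback.condition, ← Category.assoc, pullbackRightPullbackFstIso_inv_fst]
    rfl
  haveI := hasLpull f
  obtain ⟨e₁⟩ := QCohD.lpull_factor (π.fiberι x) g f W.ι hg.symm K
  let θ : (rd g).obj ((DCoh.Lpull (π.fiberι x)).obj K) ≅
      DerivedCategory.Q.obj (((Scheme.Modules.pullback f).mapHomologicalComplex (ComplexShape.up ℤ)).obj S) :=
    e₁ ≪≫ (DCoh.Lpull f).mapIso α.symm ≪≫ lpullObjIso f S (kflat_of_isStrictlyPerfect hS)
  have hgp : g.base p = q := (π.fiberι x).isEmbedding.injective (by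
    have := congrArg (fun t : π'.fiber x ⟶ P => t.base p) hg
    simp only [Scheme.Hom.comp_apply] at this
    exact this.trans (congrArg W.ι.base hp))
  subst hgp
  let N := DCoh.HD ((DCoh.Lpull (π.fiberι x)).obj K) i
  haveI : Subsingleton (N.presheaf.stalk (g.base p)) := ModuleCat.subsingleton_of_isZero h
  haveI : Subsingleton (((Scheme.Modules.restrictFunctor g).obj N).presheaf.stalk p) :=
    AddCommGrpCat.subsingleton_of_isZero (IsZero.of_iso (AddCommGrpCat.isZero_of_subsingleton (N.presheaf.stalk (g.base p)))
      ((Scheme.Modules.restrictStalkNatIso g p).app N))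
  have h' : IsZero ((DerSch.stalkFunctor _ p).obj
      ((((Scheme.Modules.pullback f).mapHomologicalComplex (ComplexShape.up ℤ)).obj S).homology i)) :=
    (show IsZero ((DerSch.stalkFunctor _ p).obj ((Scheme.Modules.restrictFunctor g).obj N)) from
      haveI : Subsingleton ((DerSch.stalkFunctor _ p).obj ((Scheme.Modules.restrictFunctor g).obj N)) :=
        ‹Subsingleton (((Scheme.Modules.restrictFunctor g).obj N).presheaf.stalk p)›
      ModuleCat.isZero_of_subsingleton _).of_iso
      ((DerSch.stalkFunctor _ p).mapIso ((homologyRdIso g _ i).symm ≪≫ (DerivedCategory.homologyFunctor _ i).mapIso θ ≪≫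
        (DerivedCategory.homologyFunctorFactors _ i).app _)).symm
  have key := notMem_support_homology π' x S hS i p h'
  rw [hp] at key
  have key' := Sky.support_congr (((DerivedCategory.homologyFunctorFactors _ i).app S).symm ≪≫
    (DerivedCategory.homologyFunctor _ i).mapIso α ≪≫ homologyRdIso W.ι K i) key
  intro hsup
  refine hsup ?_
  exact AddCommGrpCat.subsingleton_of_isZero (IsZero.of_iso
    (@AddCommGrpCat.isZero_of_subsingleton _ (not_not.1 key'))
    ((Scheme.Modules.restrictStalkNatIso W.ι ⟨z, hzW⟩).app _).symm)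

end Groth.Agent.H02CA.DiagKer
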