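import Groth.Agent.H02CA.DiagKer.Points
import Groth.Agent.S0792
import Groth.Agent.H29Fitt.Comap
import Mathlib.AlgebraicGeometry.ZariskisMainTheorem

/-!
# A kernel with finite support and trivial direct image is a graph
-/

set_option autoImplicit false
set_option linter.style.haveILetI false
set_option backward.isDefEq.respectTransparency false
set_option maxHeartbeats 1000000

universe u

open CategoryTheory CategoryTheory.Limits AlgebraicGeometry

noncomputable section

namespace Groth.Agent.H02CA.DiagKer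

/-- A cyclic module with zero Fitting ideal is faithful. -/
theorem eq_zero_of_kills {R M : Type u} [CommRing R] [AddCommGroup M] [Module R M] (g : M)
    (hg : Submodule.span R {g} = ⊤) (hF : Fitt.ideal R M 0 = ⊥) {c : R} (hc : c • g = 0) : c = 0 := by
  haveI : Module.Finite R M := ⟨hg ▸ Submodule.fg_span_singleton g⟩
  have hx : Submodule.span R (Set.range fun _ : Fin 1 => g) = ⊤ := by rwa [Set.range_const]
  rw [H29Fitt.ideal_eq _ hx, Nat.sub_zero] at hF
  have := H29Fitt.det_mem_J (x := fun _ : Fin 1 => g) (z := fun b : Fin 1 => Pi.single b c) (fun b => by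
    simp [Pi.single_apply, hc]) id
  rw [hF, Ideal.mem_bot, Matrix.det_fin_one] at this
  simpa using this

/-- An affine morphism with a faithful module pushing forward to the structure sheaf is an isomorphism. -/
theorem isIso_of_push {Z X : Scheme.{u}} (f : Z ⟶ X) [IsAffineHom f] (G : Z.Modules) (hG : Coh.IsQCoh G)
    (hft : CohB1.IsFT G) (hF : Fitt.sheafIdeal G 0 = ⊥)
    (e : (Scheme.Modules.pushforward f).obj G ≅ Coh.structureModule X) : IsIso f := by
  haveI : ∀ V : X.affineOpens, IsIso (f.app V.1) := fun V => by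
    let W : Z.affineOpens := ⟨f ⁻¹ᵁ V.1, V.2.preimage f⟩
    let ψ := e.hom.app V.1
    let χ := e.inv.app V.1
    let g : Γ(G, W.1) := χ.hom (1 : Γ(X, V.1))
    have hψχ : ∀ r : Γ(X, V.1), ψ.hom (χ.hom r) = r := fun r => by
      have := congrArg (fun t => (t.app V.1).hom r) e.inv_hom_id
      exact this
    have hχψ : ∀ n : Γ((Scheme.Modules.pushforward f).obj G, V.1), χ.hom (ψ.hom n) = n := fun n => by
      have := congrArg (fun t => (t.app V.1).hom n) e.hom_inv_id
      exact this
    have hgen : ∀ r : Γ(X, V.1), χ.hom r = (f.app V.1).hom r • g := fun r => by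
      have h := Scheme.Modules.Hom.app_smul e.inv r (1 : Γ(X, V.1))
      rw [smul_eq_mul, mul_one] at h
      exact h
    have hsurj : ∀ n : Γ(G, W.1), ∃ r : Γ(X, V.1), (f.app V.1).hom r • g = n := fun n =>
      ⟨ψ.hom n, (hgen _).symm.trans (hχψ n)⟩
    have hspan : Submodule.span Γ(Z, W.1) {g} = ⊤ := eq_top_iff.2 fun n _ => by
      obtain ⟨r, hr⟩ := hsurj n
      exact Submodule.mem_span_singleton.2 ⟨_, hr⟩
    have hF' : Fitt.ideal Γ(Z, W.1) Γ(G, W.1) 0 = ⊥ := by
      rw [← H29Fitt.sheafIdeal_ideal G hG hft 0 W, hF]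
      rfl
    refine (ConcreteCategory.isIso_iff_bijective _).2 ⟨fun r s hrs => ?_, fun c => ?_⟩
    · have : χ.hom r = χ.hom s := by rw [hgen, hgen]; exact congrArg (· • g) hrs
      exact (hψχ r).symm.trans ((congrArg ψ.hom this).trans (hψχ s))
    · obtain ⟨r, hr⟩ := hsurj (c • g)
      exact ⟨r, sub_eq_zero.1 (eq_zero_of_kills g hspan hF' (by
        rw [sub_smul, sub_eq_zero]; exact hr))⟩
  haveI : ∀ V : X.affineOpens, IsIso (f ∣_ V.1) := fun V => (isIso_morphismRestrict_iff_isIso_app f V.2).2 inferInstance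
  exact (MorphismProperty.isomorphisms.iff _).1
    ((IsZariskiLocalAtTarget.iff_of_iSup_eq_top (P := MorphismProperty.isomorphisms Scheme)
      (fun V : X.affineOpens => V.1) (iSup_affineOpens_eq_top X)).2 fun V =>
        (MorphismProperty.isomorphisms.iff _).2 inferInstance)

variable {k : Type u} [Field k] {X : Scheme.{u}} (a : X ⟶ Spec (.of k)) [IsProper a]

/-- A coherent sheaf over the diagonal points with trivial direct image is the structure sheaf of a graph. -/
theorem exists_graph (M : (pullback a a : Scheme.{u}).Modules) (hM : Coh.IsCoh M)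
    (hpts : ∀ z : (pullback a a : Scheme.{u}), IsClosed ({z} : Set (pullback a a : Scheme.{u})) → z ∈ CohB1.support M →
      (pullback.snd a a).base z = (pullback.fst a a).base z)
    (hO : Nonempty ((Scheme.Modules.pushforward (pullback.snd a a)).obj M ≅ Coh.structureModule X)) :
    ∃ (δ : X ⟶ pullback a a) (_ : IsClosedImmersion δ), δ ≫ pullback.snd a a = 𝟙 X ∧
      Nonempty (M ≅ DiagKernel.pushO δ) := by
  let P := pullback a a
  let π := pullback.fst a a
  let p₂ := pullback.snd a a
  haveI : IsLocallyNoetherian X := LocallyOfFiniteType.isLocallyNoetherian a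
  haveI : IsLocallyNoetherian P := LocallyOfFiniteType.isLocallyNoetherian π
  haveI : JacobsonSpace X := LocallyOfFiniteType.jacobsonSpace a
  let I := Fitt.sheafIdeal M 0
  let Z := I.subscheme
  let ι := I.subschemeι
  let f := ι ≫ p₂
  haveI : JacobsonSpace Z := LocallyOfFiniteType.jacobsonSpace f
  have hr : Set.range ι.base = CohB1.support M := by
    rw [Scheme.IdealSheafData.range_subschemeι, LeadProper.support_eq_fitt M hM.1 hM.2]
  have hfin : ∀ y : X, IsClosed ({y} : Set X) → (f.base ⁻¹' {y}).Finite := fun y hy => by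
    haveI : IsClosedImmersion (X.fromSpecResidueField y) := isClosed_singleton_iff_isClosedImmersion.mp hy
    haveI : IsFinite (X.fromSpecResidueField y ≫ a) :=
      (isFinite_iff_locallyOfFiniteType_of_jacobsonSpace (f := X.fromSpecResidueField y ≫ a)).mpr inferInstance
    let fy := π.fiberι y ≫ p₂
    haveI : IsFinite fy := MorphismProperty.of_isPullback
      ((IsPullback.of_hasPullback π (X.fromSpecResidueField y)).paste_horiz (IsPullback.of_hasPullback a a).flip).flip
      ‹IsFinite (X.fromSpecResidueField y ≫ a)›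
    let T := (π.fiberι y).base '' (fy.base ⁻¹' {y})
    have hT : (ι.base ⁻¹' T).Finite :=
      ((fy.finite_preimage_singleton y).image _).preimage ι.isEmbedding.injective.injOn
    have hS : IsClosed (f.base ⁻¹' {y}) := hy.preimage f.base.hom.continuous
    have hsub : (f.base ⁻¹' {y}) ∩ closedPoints Z ⊆ ι.base ⁻¹' T := by
      rintro z ⟨hzy, hzc⟩
      have hz' : IsClosed ({ι.base z} : Set P) := by
        rw [← Set.image_singleton]; exact ι.isClosedEmbedding.isClosedMap _ hzc
      have h1 : p₂.base (ι.base z) = y := hzy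
      have h2 := hpts (ι.base z) hz' (hr ▸ ⟨z, rfl⟩)
      obtain ⟨q, hq⟩ : ι.base z ∈ Set.range (π.fiberι y).base :=
        (Scheme.Hom.range_fiberι π y).symm ▸ (show π.base (ι.base z) = y from h2.symm.trans h1)
      refine ⟨q, ?_, hq⟩
      show fy.base q = y
      exact (congrArg p₂.base hq).trans h1
    have hfin' := hT.subset hsub
    rw [← JacobsonSpace.closure_inter_closedPoints hS]
    refine hfin'.subset (closure_minimal le_rfl ?_)
    rw [← Set.biUnion_of_singleton ((f.base ⁻¹' {y}) ∩ closedPoints Z)]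
    exact hfin'.isClosed_biUnion fun z hz => hz.2
  haveI : IsFinite f := by
    have hV : ∀ y : closedPoints X, ∃ V : X.Opens, y.1 ∈ V ∧ IsFinite (f ∣_ V) := fun y =>
      exists_isFinite_morphismRestrict_of_finite_preimage_singleton f y.1 (hfin y.1 y.2)
    choose V hyV hV using hV
    refine (IsZariskiLocalAtTarget.iff_of_iSup_eq_top (P := @IsFinite) V ?_).2 hV
    by_contra hne
    obtain ⟨y, hy, hyc⟩ : ((((iSup V : X.Opens) : Set X)ᶜ) ∩ closedPoints X).Nonempty := by
      refine nonempty_inter_closedPoints ?_ (iSup V : X.Opens).isOpen.isClosed_compl.isLocallyClosed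
      rw [Set.nonempty_compl]
      exact fun h => hne (SetLike.coe_injective (h.trans (TopologicalSpace.Opens.coe_top (α := X)).symm))
    exact hy (TopologicalSpace.Opens.mem_iSup.2 ⟨⟨y, hyc⟩, hyV ⟨y, hyc⟩⟩)
  let G := (Scheme.Modules.pullback ι).obj M
  haveI : IsIso ((Scheme.Modules.pullbackPushforwardAdjunction ι).unit.app M) :=
    LeadProper.isIso_unit_of_killedByIdeal M hM.1 _ (by
      rw [Scheme.IdealSheafData.ker_subschemeι]; exact LeadProper.killedByIdeal_fitt M hM.1 hM.2)
  let eM : M ≅ (Scheme.Modules.pushforward ι).obj G :=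
    asIso ((Scheme.Modules.pullbackPushforwardAdjunction ι).unit.app M)
  obtain ⟨eO⟩ := hO
  let eG : (Scheme.Modules.pushforward f).obj G ≅ Coh.structureModule X :=
    ((Scheme.Modules.pushforwardComp ι p₂).app G).symm ≪≫ (Scheme.Modules.pushforward p₂).mapIso eM.symm ≪≫ eO
  haveI : IsIso f := isIso_of_push f G (H29Fitt.isQCoh_pullback _ M hM.1) (H29Fitt.isFT_pullback _ M hM.1 hM.2) (by
    rw [← H29Fitt.sheafIdeal_comap ι M hM.1 hM.2, eq_bot_iff, ← Scheme.IdealSheafData.le_map_iff_comap_le,
      Scheme.IdealSheafData.map_bot, Scheme.IdealSheafData.ker_subschemeι]) eG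
  let δ := inv f ≫ ι
  haveI : IsClosedImmersion δ := inferInstance
  refine ⟨δ, inferInstance, by simp [δ, f, p₂], ⟨eM ≪≫ (Scheme.Modules.pushforward ι).mapIso ?_ ≪≫
    (Scheme.Modules.pushforwardComp (inv f) ι).app _⟩⟩
  exact ((Scheme.Modules.pushforwardId Z).app G).symm ≪≫
    (Scheme.Modules.pushforwardCongr (IsIso.hom_inv_id f).symm).app G ≪≫
    ((Scheme.Modules.pushforwardComp f (inv f)).app G).symm ≪≫ (Scheme.Modules.pushforward (inv f)).mapIso eG

end Groth.Agent.H02CA.DiagKer
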