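import Groth.Agent.H02CA.DiagKer.Graph
import Groth.Agent.H16Derived.BaseChange.AffineSingle
import Groth.Agent.H17.ExtRegVanish.Regular
import Groth.Agent.H28PicSep.Fibre
import Groth.Agent.H27KZero.PerfectSupp

/-!
# An endomorphism whose derived pullback is the identity on perfect complexes is the identity
-/

set_option autoImplicit false
set_option linter.style.haveILetI false
set_option backward.isDefEq.respectTransparency false
set_option maxHeartbeats 1000000

universe u

open CategoryTheory CategoryTheory.Limits AlgebraicGeometry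

attribute [local instance] HasDerivedCategory.standard

noncomputable section

namespace Groth.Agent.H02CA.DiagKer

open Groth.Agent.H16Derived Groth.Agent.H16Derived.KFlat.Stalk Groth.Agent.H17.ExtRegVanish

/-- A morphism with finite fibres over the closed points and a Jacobson source is finite. -/
theorem isFinite_of_finite_closed {X Y : Scheme.{u}} (f : X ⟶ Y) [IsProper f] [JacobsonSpace Y]
    (h : ∀ y : Y, IsClosed ({y} : Set Y) → (f.base ⁻¹' {y}).Finite) : IsFinite f := by
  have hV : ∀ y : closedPoints Y, ∃ V : Y.Opens, y.1 ∈ V ∧ IsFinite (f ∣_ V) := fun y =>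
    exists_isFinite_morphismRestrict_of_finite_preimage_singleton f y.1 (h y.1 y.2)
  choose V hyV hV using hV
  refine (IsZariskiLocalAtTarget.iff_of_iSup_eq_top (P := @IsFinite) V ?_).2 hV
  by_contra hne
  obtain ⟨y, hy, hyc⟩ : ((((iSup V : Y.Opens) : Set Y)ᶜ) ∩ closedPoints Y).Nonempty := by
    refine nonempty_inter_closedPoints ?_ (iSup V : Y.Opens).isOpen.isClosed_compl.isLocallyClosed
    rw [Set.nonempty_compl]
    exact fun h => hne (SetLike.coe_injective (h.trans (TopologicalSpace.Opens.coe_top (α := Y)).symm))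
  exact hy (TopologicalSpace.Opens.mem_iSup.2 ⟨⟨y, hyc⟩, hyV ⟨y, hyc⟩⟩)

/-- The comparison of the direct image of a module with the derived direct image. -/
def natCmp {X Y : Scheme.{u}} (f : X ⟶ Y) [DCoh.HasRpush f] :
    Scheme.Modules.pushforward f ⋙ DerivedCategory.singleFunctor Y.Modules 0 ⟶
      DerivedCategory.singleFunctor X.Modules 0 ⋙ DCoh.Rpush f :=
  (Functor.isoWhiskerLeft _ (DerivedCategory.singleFunctorIsoCompQ Y.Modules 0)).hom ≫
    (Functor.associator _ _ _).inv ≫
    Functor.whiskerRight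
      (HomologicalComplex.singleMapHomologicalComplex (Scheme.Modules.pushforward f) (ComplexShape.up ℤ) 0).inv
      DerivedCategory.Q ≫
    (Functor.associator _ _ _).hom ≫
    Functor.whiskerLeft _ (BaseChange.υ f) ≫
    (Functor.associator _ _ _).inv ≫
    (Functor.isoWhiskerRight (DerivedCategory.singleFunctorIsoCompQ X.Modules 0).symm (DCoh.Rpush f)).hom

theorem isIso_natCmp {X Y : Scheme.{u}} (f : X ⟶ Y) [DCoh.HasRpush f] [IsAffineHom f] (F : X.Modules)
    (hF : Coh.IsQCoh F) : IsIso ((natCmp f).app F) := by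
  haveI : IsIso ((BaseChange.υ f).app ((HomologicalComplex.single X.Modules (ComplexShape.up ℤ) 0).obj F)) :=
    BaseChange.isIso_υ f _ (fun i => by
      by_cases hi : i = 0
      · subst hi
        exact QCohD.isQCoh_iso (HomologicalComplex.singleObjXSelf (ComplexShape.up ℤ) 0 F).symm hF
      · exact QCohD.isQCoh_isZero _ (HomologicalComplex.isZero_single_obj_X (ComplexShape.up ℤ) 0 F i hi))
  simp only [natCmp, NatTrans.comp_app, Functor.associator_hom_app, Functor.associator_inv_app,
    Functor.whiskerRight_app, Functor.whiskerLeft_app, Functor.isoWhiskerLeft_hom, Functor.isoWhiskerRight_hom]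
  infer_instance

/-- A nonzero map of skyscrapers natural in the endomorphisms determines the morphism of the point. -/
theorem eq_of_natural {S X : Scheme.{u}} [IsAffine S] [Subsingleton S] (hK : IsField Γ(S, ⊤)) (j₁ j₂ : S ⟶ X)
    (hpt : ∀ s, j₁.base s = j₂.base s)
    (ψ : (Scheme.Modules.pushforward j₁).obj (Coh.structureModule S) ⟶
      (Scheme.Modules.pushforward j₂).obj (Coh.structureModule S)) (hψ : ψ ≠ 0)
    (hnat : ∀ φ : Coh.structureModule S ⟶ Coh.structureModule S,
      (Scheme.Modules.pushforward j₁).map φ ≫ ψ = ψ ≫ (Scheme.Modules.pushforward j₂).map φ) : j₁ = j₂ := by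
  obtain ⟨U, w, hw⟩ : ∃ (U : X.Opens) (w : Γ((Scheme.Modules.pushforward j₁).obj (Coh.structureModule S), U)),
      ψ.app U w ≠ 0 := by
    by_contra hc
    push Not at hc
    exact hψ (Scheme.Modules.hom_ext _ _ fun U => by ext w; exact hc U w)
  obtain ⟨s, hs⟩ : ∃ s, s ∈ j₂ ⁻¹ᵁ U := by
    by_contra hc
    push Not at hc
    have : j₂ ⁻¹ᵁ U = ⊥ := TopologicalSpace.Opens.ext (Set.eq_empty_iff_forall_notMem.2 hc)
    haveI : Subsingleton Γ(S, j₂ ⁻¹ᵁ U) := this ▸ inferInstance
    exact hw (Subsingleton.elim (α := Γ(S, j₂ ⁻¹ᵁ U)) _ _)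
  obtain ⟨V, hV, hxV, -⟩ := exists_isAffineOpen_mem_and_subset (X := X) (x := j₂.base s) (U := ⊤) trivial
  let W := V ⊓ U
  have htop : ∀ (O : X.Opens), j₂.base s ∈ O → j₁ ⁻¹ᵁ O = ⊤ ∧ j₂ ⁻¹ᵁ O = ⊤ := fun O hO =>
    ⟨top_unique fun t _ => by
        show j₁.base t ∈ O
        rw [hpt, Subsingleton.elim t s]; exact hO,
      top_unique fun t _ => by
        show j₂.base t ∈ O
        rw [Subsingleton.elim t s]; exact hO⟩
  have hW : j₂.base s ∈ W := ⟨hxV, hs⟩
  let w' : Γ(S, j₁ ⁻¹ᵁ W) :=
    ((Scheme.Modules.pushforward j₁).obj (Coh.structureModule S)).presheaf.map (homOfLE (inf_le_right : W ≤ U)).op w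
  have hw' : ψ.app W w' ≠ 0 := by
    intro h0
    have hnatr := ConcreteCategory.congr_hom (ψ.mapPresheaf.naturality (homOfLE (inf_le_right : W ≤ U)).op) w
    have h1 : S.presheaf.map (homOfLE (j₂.preimage_mono (inf_le_right : W ≤ U))).op
        (show Γ(S, j₂ ⁻¹ᵁ U) from ψ.app U w) = 0 := hnatr.symm.trans h0
    haveI : IsIso (homOfLE (j₂.preimage_mono (inf_le_right : W ≤ U))) :=
      ⟨⟨homOfLE ((htop U hs).2.trans (htop W hW).2.symm).le, Subsingleton.elim _ _, Subsingleton.elim _ _⟩⟩
    exact hw ((ConcreteCategory.bijective_of_isIso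
      (S.presheaf.map (homOfLE (j₂.preimage_mono (inf_le_right : W ≤ U))).op)).1 (h1.trans (map_zero _).symm))
  have key : ∀ b : Γ(X, W), j₁.appLE W ⊤ (htop W hW).1.ge b = j₂.appLE W ⊤ (htop W hW).2.ge b := by
    intro b
    have hr : ∀ (j : S ⟶ X) (h : (⊤ : S.Opens) ≤ j ⁻¹ᵁ W),
        S.presheaf.map (homOfLE (le_top : j ⁻¹ᵁ W ≤ ⊤)).op (j.appLE W ⊤ h b) = j.app W b := fun j h => by
      rw [← ConcreteCategory.comp_apply, Scheme.Hom.appLE_map, Scheme.Hom.app_eq_appLE]
    have hnatW : ∀ (c : Γ(S, ⊤)) (v : Γ(S, j₁ ⁻¹ᵁ W)),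
        ψ.app W (S.presheaf.map (homOfLE (le_top : j₁ ⁻¹ᵁ W ≤ ⊤)).op c * v) =
          S.presheaf.map (homOfLE (le_top : j₂ ⁻¹ᵁ W ≤ ⊤)).op c * (show Γ(S, j₂ ⁻¹ᵁ W) from ψ.app W v) :=
      fun c v => congrArg (fun t => (t.app W).hom v) (hnat (mulEnd c (Coh.structureModule S)))
    let d := j₂.appLE W ⊤ (htop W hW).2.ge b - j₁.appLE W ⊤ (htop W hW).1.ge b
    have hd : ψ.app W (S.presheaf.map (homOfLE (le_top : j₁ ⁻¹ᵁ W ≤ ⊤)).op d * w') = 0 := by
      have hlin : ψ.app W (j₁.app W b * w') = j₂.app W b * (show Γ(S, j₂ ⁻¹ᵁ W) from ψ.app W w') :=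
        Scheme.Modules.Hom.app_smul ψ b w'
      rw [map_sub, sub_mul, map_sub, hnatW, hr, hr, hlin, sub_self]
    by_contra hne
    obtain ⟨d', hd'⟩ := hK.mul_inv_cancel (a := d) (sub_ne_zero.2 (Ne.symm hne))
    refine hw' ?_
    have := hnatW d' (S.presheaf.map (homOfLE (le_top : j₁ ⁻¹ᵁ W ≤ ⊤)).op d * w')
    rw [hd, ← mul_assoc, ← map_mul, mul_comm d' d, hd', map_one, one_mul, mul_zero] at this
    exact this
  have heq : j₁.appLE V ⊤ (htop V hxV).1.ge = j₂.appLE V ⊤ (htop V hxV).2.ge := by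
    have h2 := fun (j : S ⟶ X) (h : (⊤ : S.Opens) ≤ j ⁻¹ᵁ W) (h' : (⊤ : S.Opens) ≤ j ⁻¹ᵁ V) =>
      j.map_appLE h (homOfLE (inf_le_left : W ≤ V)).op
    refine ConcreteCategory.hom_ext _ _ fun b => ?_
    have := key (X.presheaf.map (homOfLE (inf_le_left : W ≤ V)).op b)
    rwa [← ConcreteCategory.comp_apply, ← ConcreteCategory.comp_apply, h2 j₁ _ (htop V hxV).1.ge,
      h2 j₂ _ (htop V hxV).2.ge] at this
  have e1 := hV.SpecMap_appLE_fromSpec j₁ (isAffineOpen_top S) (htop V hxV).1.ge
  have e2 := hV.SpecMap_appLE_fromSpec j₂ (isAffineOpen_top S) (htop V hxV).2.ge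
  haveI : IsIso (isAffineOpen_top S).fromSpec := by rw [IsAffineOpen.fromSpec_top]; infer_instance
  rw [heq, e2, cancel_epi] at e1
  exact e1.symm

variable {k : Type u} [Field k] {X : Scheme.{u}} (a : X ⟶ Spec (.of k)) [IsProper a] [Smooth a]

/-- The identity is the only endomorphism whose derived pullback is the identity on perfect complexes. -/
theorem eq_id (σ : X ⟶ X) (hσ : σ ≫ a = a) (hfix : ∀ y : X, IsClosed ({y} : Set X) → σ.base y = y)
    [DCoh.HasLpull σ] (η : ObjectProperty.ι (SGA6.perfP X) ⋙ DCoh.Lpull σ ≅ ObjectProperty.ι (SGA6.perfP X))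
    (hreg : ∀ x : X, IsRegularLocalRing (X.presheaf.stalk x)) :
    σ = 𝟙 X := by
  haveI : IsLocallyNoetherian X := LocallyOfFiniteType.isLocallyNoetherian a
  haveI : JacobsonSpace X := LocallyOfFiniteType.jacobsonSpace a
  haveI : CompactSpace X := QuasiCompact.compactSpace_of_compactSpace a
  haveI : IsReduced X := H28PicSep.isReduced_of_smooth_field a
  haveI : IsProper (σ ≫ a) := by rw [hσ]; infer_instance
  haveI : IsProper σ := IsProper.of_comp σ a
  haveI : IsFinite σ := isFinite_of_finite_closed σ fun y hy => by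
    have hS : IsClosed (σ.base ⁻¹' {y}) := hy.preimage σ.base.hom.continuous
    refine (Set.finite_singleton y).subset ?_
    rw [← JacobsonSpace.closure_inter_closedPoints hS]
    exact closure_minimal (fun z hz => (hfix z hz.2).symm.trans hz.1) hy
  haveI := QCohD.hasRpush σ
  refine ext_of_fromSpecResidueField_eq σ (𝟙 X) a (closedPoints X)
    (dense_iff_closure_eq.2 closure_closedPoints) (fun x hx => ?_) (by simp [hσ])
  haveI : IsClosedImmersion (X.fromSpecResidueField x) := isClosed_singleton_iff_isClosedImmersion.mp hx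
  let j := X.fromSpecResidueField x
  let O := Coh.structureModule (Spec (X.residueField x))
  let F := (Scheme.Modules.pushforward j).obj O
  have hF : Coh.IsCoh F :=
    H10Coh.isCoh_push_of_isFinite (f := j) _ (LeadAff.isCoh_structureModule _)
  have hG : Coh.IsCoh ((Scheme.Modules.pushforward σ).obj F) :=
    H10Coh.isCoh_push_of_isFinite (f := σ) _ hF
  let adj := lpullRpushAdj σ
  let R := fun N : X.Modules => (DCoh.Rpush σ).obj (DCoh.inD X N)
  let τ := natCmp σ
  haveI : IsIso (τ.app F) := isIso_natCmp σ F hF.1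
  let cmp : DCoh.inD X ((Scheme.Modules.pushforward σ).obj F) ≅ R F := asIso (τ.app F)
  have hcmp : ∀ φ : F ⟶ F,
      (DerivedCategory.singleFunctor X.Modules 0).map ((Scheme.Modules.pushforward σ).map φ) ≫ cmp.hom =
        cmp.hom ≫ (DCoh.Rpush σ).map ((DerivedCategory.singleFunctor X.Modules 0).map φ) :=
    fun φ => τ.naturality φ
  have hB : DCoh.IsPerfect (R F) :=
    H27KZero.isPerfect_of_iso' cmp (Spanning.isPerfect_inD_of_isCoh hreg hG)
  let B : (SGA6.perfP X).FullSubcategory := ⟨R F, hB⟩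
  let u : R F ⟶ DCoh.inD X F := η.inv.app B ≫ adj.counit.app (DCoh.inD X F)
  have hu : ∀ φ : F ⟶ F, (DCoh.Rpush σ).map ((DerivedCategory.singleFunctor X.Modules 0).map φ) ≫ u =
      u ≫ (DerivedCategory.singleFunctor X.Modules 0).map φ := by
    intro φ
    have := η.inv.naturality (X := B) (Y := B) (ObjectProperty.homMk ((DCoh.Rpush σ).map
      ((DerivedCategory.singleFunctor X.Modules 0).map φ)))
    exact ((reassoc_of% this) _).trans (congrArg (η.inv.app B ≫ ·) (adj.counit.naturality _) |>.trans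
      (Category.assoc _ _ _).symm)
  let ψ : (Scheme.Modules.pushforward σ).obj F ⟶ F :=
    (DerivedCategory.singleFunctor X.Modules 0).preimage (cmp.hom ≫ u)
  have hψmap : (DerivedCategory.singleFunctor X.Modules 0).map ψ = cmp.hom ≫ u := Functor.map_preimage _ _
  have hψ : ψ ≠ 0 := by
    intro h0
    rw [h0, Functor.map_zero] at hψmap
    have hu0 : u = 0 := (cancel_epi cmp.hom).1 (hψmap.symm.trans comp_zero.symm)
    have hc0 : adj.counit.app (DCoh.inD X F) = 0 :=
      (cancel_epi (η.inv.app B)).1 (hu0.trans comp_zero.symm)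
    haveI : (DCoh.Rpush σ).Additive := (
      letI := lpullCommShift σ
      haveI := lpull_isTriangulated σ
      adj.right_adjoint_additive)
    have hz : IsZero (R F) := (IsZero.iff_id_eq_zero _).2 (by
      rw [← adj.right_triangle_components (DCoh.inD X F), hc0, Functor.map_zero, comp_zero])
    have hz' : IsZero ((Scheme.Modules.pushforward σ).obj F) := (IsZero.iff_id_eq_zero _).2
      ((DerivedCategory.singleFunctor X.Modules 0).map_injective ((hz.of_iso cmp).eq_of_src _ _))
    have hnt : Nontrivial Γ(Spec (X.residueField x), ⊤) :=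
      (Scheme.ΓSpecIso (X.residueField x)).commRingCatIsoToRingEquiv.toEquiv.nontrivial
    have h1 := congrArg (fun t => (t.app (⊤ : X.Opens)).hom (1 : Γ(Spec (X.residueField x), ⊤)))
      ((IsZero.iff_id_eq_zero _).1 hz')
    exact one_ne_zero (α := Γ(Spec (X.residueField x), ⊤)) h1
  have hnat : ∀ φ : F ⟶ F, (Scheme.Modules.pushforward σ).map φ ≫ ψ = ψ ≫ φ := fun φ => by
    apply (DerivedCategory.singleFunctor X.Modules 0).map_injective
    rw [Functor.map_comp, Functor.map_comp, hψmap, ← Category.assoc, hcmp, Category.assoc, hu, ← Category.assoc]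
  haveI : Subsingleton (Spec (X.residueField x) : Scheme.{u}) :=
    inferInstanceAs (Subsingleton (PrimeSpectrum (X.residueField x)))
  have hK : IsField Γ(Spec (X.residueField x), ⊤) :=
    MulEquiv.isField (Field.toIsField (X.residueField x))
      (Scheme.ΓSpecIso (X.residueField x)).commRingCatIsoToRingEquiv.toMulEquiv
  rw [Category.comp_id]
  refine eq_of_natural hK (j ≫ σ) j (fun s => ?_)
    ((Scheme.Modules.pushforwardComp j σ).inv.app O ≫ ψ) (fun h0 => hψ ?_) (fun φ => ?_)
  · show σ.base (j.base s) = j.base s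
    rw [Scheme.fromSpecResidueField_apply]
    exact hfix x hx
  · exact (cancel_epi ((Scheme.Modules.pushforwardComp j σ).inv.app O)).1 (h0.trans comp_zero.symm)
  · rw [Category.assoc, ← hnat ((Scheme.Modules.pushforward j).map φ),
      (Scheme.Modules.pushforwardComp j σ).inv.naturality_assoc]
    rfl

end Groth.Agent.H02CA.DiagKer
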