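import Groth.Agent.H02CA.DiagKer.Identity
import Groth.Agent.H02CA.DiagKernel
import Groth.Agent.H02CA.Spanning.Points
import Groth.Agent.H8Props.ClosedBaseChange
import Groth.Agent.H16Derived.ProperSupp.Tensor
import Groth.Agent.H19Grp.RegularSmooth
import Groth.Agent.LeadBrown.CopTensor
import Groth.Agent.H16Derived.RelTensor.Local
import Groth.Agent.H28Int.Curves

/-!
# The kernel of the identity functor is the structure sheaf of the diagonal
-/

set_option autoImplicit false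
set_option linter.style.haveILetI false
set_option backward.isDefEq.respectTransparency false
set_option maxHeartbeats 1000000

universe u

open CategoryTheory CategoryTheory.Limits AlgebraicGeometry

attribute [local instance] HasDerivedCategory.standard

noncomputable section

namespace Groth.Agent.H02CA.DiagKer

open Groth.Agent.H16Derived Groth.Agent.H16Derived.KFlat Groth.Agent.H16Derived.KFlat.Stalk

variable {k : Type u} [Field k] {X : Scheme.{u}} (a : X ⟶ Spec (.of k)) [IsProper a] [Smooth a]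

/-- The value of a Fourier–Mukai functor on a module. -/
theorem nonempty_phi_inD (K : CochainComplex (pullback a a : Scheme.{u}).Modules ℤ)
    [DCoh.HasLpull (pullback.fst a a)] [DCoh.HasLTensorCx K] [DCoh.HasRpush (pullback.snd a a)]
    (F : X.Modules) [DCoh.HasLTensorMod ((Scheme.Modules.pullback (pullback.fst a a)).obj F)] :
    Nonempty ((DCoh.Lpull (pullback.fst a a) ⋙ DCoh.LTensorCx K ⋙ DCoh.Rpush (pullback.snd a a)).obj (DCoh.inD X F) ≅
      (DCoh.Rpush (pullback.snd a a)).obj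
        ((DCoh.LTensorMod ((Scheme.Modules.pullback (pullback.fst a a)).obj F)).obj (DCoh.toD _ K))) := by
  let π := pullback.fst a a
  haveI := preservesFiniteLimits_pullback_of_flat π
  obtain ⟨e₁⟩ := H8Props.ClosedBC.nonempty_lpull_flat π (DCoh.inD X F)
  obtain ⟨e₂⟩ := ProperSupp.nonempty_ltensorMod_iso (DCoh.toD _ K) ((Scheme.Modules.pullback π).obj F)
  exact ⟨(DCoh.Rpush (pullback.snd a a)).mapIso
    ((DCoh.LTensorCx K).mapIso (e₁ ≪≫ ((Scheme.Modules.pullback π).mapDerivedCategorySingleFunctor 0).app F) ≪≫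
      ((Dual.ltensorCxIsoT K).app _).symm ≪≫ Dual.σ _ _ ≪≫ e₂.symm)⟩

theorem main (K : CochainComplex (pullback a a : Scheme.{u}).Modules ℤ) (hK : DCoh.IsPerfect (DCoh.toD _ K))
    [DCoh.HasLpull (pullback.fst a a)] [DCoh.HasLTensorCx K] [DCoh.HasRpush (pullback.snd a a)]
    (h : ObjectProperty.ι (SGA6.perfP X) ⋙
      (DCoh.Lpull (pullback.fst a a) ⋙ DCoh.LTensorCx K ⋙ DCoh.Rpush (pullback.snd a a)) ≅
        ObjectProperty.ι (SGA6.perfP X)) :
    Nonempty (DCoh.toD _ K ≅ DCoh.inD _ (DiagKernel.pushO (pullback.diagonal a))) := by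
  let P := pullback a a
  haveI := QCohD.hasRpush (pullback.fst a a)
  let π := pullback.fst a a
  let p₂ := pullback.snd a a
  haveI : IsLocallyNoetherian X := LocallyOfFiniteType.isLocallyNoetherian a
  haveI : CompactSpace X := QuasiCompact.compactSpace_of_compactSpace a
  haveI : IsLocallyNoetherian P := LocallyOfFiniteType.isLocallyNoetherian π
  haveI : ∀ F : X.Modules, DCoh.HasLTensorMod ((Scheme.Modules.pullback π).obj F) := fun F => hasLTensorMod _
  have hreg : ∀ x : X, IsRegularLocalRing (X.presheaf.stalk x) :=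
    fun x => H19Grp.isRegularLocalRing_stalk_of_smooth a x
  have hval : ∀ F : X.Modules, Coh.IsCoh F →
      Nonempty ((DCoh.Rpush p₂).obj ((DCoh.LTensorMod ((Scheme.Modules.pullback π).obj F)).obj (DCoh.toD _ K)) ≅
        DCoh.inD X F) := fun F hF => by
    obtain ⟨e⟩ := nonempty_phi_inD a K F
    exact ⟨e.symm ≪≫ h.app ⟨DCoh.inD X F, Spanning.isPerfect_inD_of_isCoh hreg hF⟩⟩
  have hz : ∀ q : ℤ, q ≠ 0 → IsZero (DCoh.HD (DCoh.toD _ K) q) := fun q hq =>
    SysBounded.isZero_hd_of_points a a _ hK q fun F hF _ _ => by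
      obtain ⟨e⟩ := hval F hF
      refine IsZero.of_iso ?_ ((DerivedCategory.homologyFunctor _ q).mapIso e)
      rcases lt_or_gt_of_ne hq with h1 | h1
      · exact DerivedCategory.isZero_of_isGE _ 0 q h1
      · exact DerivedCategory.isZero_of_isLE _ 0 q h1
  haveI : (DCoh.toD _ K).IsGE 0 := (DerivedCategory.isGE_iff _ _).2 fun i hi => hz i (by omega)
  haveI : (DCoh.toD _ K).IsLE 0 := (DerivedCategory.isLE_iff _ _).2 fun i hi => hz i (by omega)
  obtain ⟨M, ⟨eM⟩⟩ := DerivedCategory.exists_iso_singleFunctor_obj_of_isGE_of_isLE (DCoh.toD _ K) 0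
  let eM₀ : DCoh.HD (DCoh.toD _ K) 0 ≅ M := (DerivedCategory.homologyFunctor _ 0).mapIso eM ≪≫
    (DerivedCategory.singleFunctorCompHomologyFunctorIso _ 0).app M
  haveI : CompactSpace P := QuasiCompact.compactSpace_of_compactSpace π
  have hM : Coh.IsCoh M := H10Coh.isCoh_of_iso eM₀ ((isCohD_and_bounded_of_isPerfect hK).1 0)
  have hpts : ∀ z : P, IsClosed ({z} : Set P) → z ∈ CohB1.support M → p₂.base z = π.base z := fun z hzc hzs =>
    fst_eq_snd a _ hK (fun F hF _ _ => hval F hF) 0 z hzc (by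
      by_contra hn
      exact Sky.support_congr eM₀ hn hzs)
  let O := Coh.structureModule X
  let O₂ := Coh.structureModule P
  let F₀ : (SGA6.perfP X).FullSubcategory :=
    ⟨DCoh.inD X O, Spanning.isPerfect_inD_of_isCoh hreg (LeadAff.isCoh_structureModule _)⟩
  obtain ⟨l⟩ := LeadBrown.nonempty_lpull_single π 0
  haveI := hasLTensorMod M
  obtain ⟨e₂⟩ := ProperSupp.nonempty_ltensorMod_iso (DCoh.inD P O₂) M
  obtain ⟨u₀⟩ := RelTensor.nonempty_ltensor_one M 0
  let u₁ : (DCoh.LTensorMod M).obj (DCoh.inD P O₂) ≅ DCoh.inD P M :=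
    (DCoh.LTensorMod M).mapIso ((shiftFunctorZero (DCoh.D P) ℤ).app _).symm ≪≫ u₀ ≪≫
      (shiftFunctorZero (DCoh.D P) ℤ).app _
  let ePush : (DCoh.Rpush p₂).obj (DCoh.inD P M) ≅ DCoh.inD X O :=
    (DCoh.Rpush p₂).mapIso (((DCoh.LTensorCx K).mapIso l ≪≫
      ((Dual.ltensorCxIsoT K).app _).symm ≪≫ ((Dual.T P).obj _).mapIso eM ≪≫ e₂.symm ≪≫ u₁)).symm ≪≫ h.app F₀
  haveI := isGrothendieckAbelian_modules (X := P)
  obtain ⟨eR⟩ := QCohD.nonempty_hd_rpush_single p₂ M 0
  have hO : Nonempty ((Scheme.Modules.pushforward p₂).obj M ≅ O) :=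
    ⟨((Scheme.Modules.pushforward p₂).rightDerivedZeroIsoSelf.app M).symm ≪≫ eR.symm ≪≫
      (DerivedCategory.homologyFunctor _ 0).mapIso ePush ≪≫
      (DerivedCategory.singleFunctorCompHomologyFunctorIso _ 0).app O⟩
  obtain ⟨δ, hδ, hδ₂, ⟨eδ⟩⟩ := exists_graph a M hM hpts hO
  haveI := hδ
  let σ := δ ≫ π
  have hσ : σ ≫ a = a := by
    show (δ ≫ pullback.fst a a) ≫ a = a
    rw [Category.assoc, pullback.condition, ← Category.assoc, hδ₂, Category.id_comp]
  haveI : JacobsonSpace X := LocallyOfFiniteType.jacobsonSpace a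
  have hfix : ∀ y : X, IsClosed ({y} : Set X) → σ.base y = y := fun y hy => by
    have hzc : IsClosed ({δ.base y} : Set P) := by
      rw [← Set.image_singleton]; exact δ.isClosedEmbedding.isClosedMap _ hy
    have hys : δ.base y ∈ CohB1.support M := by
      by_contra hn
      exact Sky.support_congr eδ hn (H28Int.Curves.mem_support_push_structure δ y)
    refine (hpts _ hzc hys).symm.trans ?_
    exact congrArg (fun f : X ⟶ X => f.base y) hδ₂
  haveI := hasLpull δ
  haveI := hasLpull σ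
  haveI := QCohD.hasRpush δ
  haveI := QCohD.hasRpush (δ ≫ p₂)
  let eK : DCoh.toD _ K ≅ DCoh.inD P (DiagKernel.pushO δ) :=
    eM ≪≫ (DerivedCategory.singleFunctor _ 0).mapIso eδ
  obtain ⟨e⟩ := DiagKernel.nonempty_ltensor_iso δ K ⟨eK⟩
  obtain ⟨c₁⟩ := nonempty_lpullCompIso δ π
  obtain ⟨c₂⟩ := nonempty_rpushCompIso δ p₂
  obtain ⟨i₂⟩ := DiagKernel.nonempty_rpush_of_eq (δ ≫ p₂) hδ₂
  let eΦ : DCoh.Lpull π ⋙ DCoh.LTensorCx K ⋙ DCoh.Rpush p₂ ≅ DCoh.Lpull σ :=
    Functor.isoWhiskerLeft _ (Functor.isoWhiskerRight e _) ≪≫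
      Functor.isoWhiskerLeft _ (Functor.associator _ _ _) ≪≫
      Functor.isoWhiskerLeft _ (Functor.isoWhiskerLeft _ c₂) ≪≫
      (Functor.associator _ _ _).symm ≪≫ Functor.isoWhiskerRight c₁ _ ≪≫
      Functor.isoWhiskerLeft _ i₂ ≪≫ Functor.rightUnitor _
  have hid : σ = 𝟙 X := eq_id a σ hσ hfix ((Functor.isoWhiskerLeft _ eΦ).symm ≪≫ h) hreg
  have hdiag : δ = pullback.diagonal a :=
    pullback.hom_ext (hid.trans (pullback.diagonal_fst a).symm) (hδ₂.trans (pullback.diagonal_snd a).symm)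
  exact ⟨eK ≪≫ eqToIso (by rw [hdiag])⟩

end Groth.Agent.H02CA.DiagKer
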