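import Groth.Agent.H02CA.DiagKer.Fibre
import Groth.Agent.H17.FourierMukai.RegularSource

/-!
# A kernel fixing the sheaves of finite length lives over the diagonal points
-/

set_option autoImplicit false
set_option linter.style.haveILetI false
set_option backward.isDefEq.respectTransparency false
set_option maxHeartbeats 1000000

universe u

open CategoryTheory CategoryTheory.Limits AlgebraicGeometry

attribute [local instance] HasDerivedCategory.standard

noncomputable section

namespace Groth.Agent.H02CA.DiagKer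

open Groth.Agent.H02CA.SysBounded Groth.Agent.H16Derived Groth.Agent.H16Derived.KFlat Groth.Agent.H16Derived.KFlat.Stalk

theorem subsingleton_restrict {Y Z : Scheme.{u}} (g : Y ⟶ Z) [IsOpenImmersion g] (M : Z.Modules) (y : Y) :
    Subsingleton (((Scheme.Modules.restrictFunctor g).obj M).presheaf.stalk y) ↔ Subsingleton (M.presheaf.stalk (g.base y)) :=
  (CategoryTheory.Iso.addCommGroupIsoToAddEquiv ((Scheme.Modules.restrictStalkNatIso g y).app M)).toEquiv.subsingleton_congr

variable {k : Type u} [Field k] {X : Scheme.{u}} (a : X ⟶ Spec (.of k)) [LocallyOfFiniteType a] [QuasiCompact a]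

/-- The closed points of the support of the cohomology of the kernel have equal projections. -/
theorem fst_eq_snd
    [∀ F : X.Modules, DCoh.HasLTensorMod ((Scheme.Modules.pullback (pullback.fst a a)).obj F)]
    [DCoh.HasRpush (pullback.snd a a)]
    (K : DCoh.D (pullback a a)) (hK : DCoh.IsPerfect K)
    (h : ∀ F : X.Modules, Coh.IsCoh F → (CohB1.support F).Finite →
      (∀ x ∈ CohB1.support F, IsClosed ({x} : Set X)) →
      Nonempty ((DCoh.Rpush (pullback.snd a a)).obj
        ((DCoh.LTensorMod ((Scheme.Modules.pullback (pullback.fst a a)).obj F)).obj K) ≅ DCoh.inD X F))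
    (i : ℤ) (z : (pullback a a : Scheme.{u})) (hzc : IsClosed ({z} : Set (pullback a a : Scheme.{u})))
    (hz : z ∈ CohB1.support (DCoh.HD K i)) :
    (pullback.snd a a).base z = (pullback.fst a a).base z := by
  let P := pullback a a
  let π := pullback.fst a a
  haveI : IsLocallyNoetherian X := LocallyOfFiniteType.isLocallyNoetherian a
  haveI : IsLocallyNoetherian P := LocallyOfFiniteType.isLocallyNoetherian π
  haveI : JacobsonSpace X := LocallyOfFiniteType.jacobsonSpace a
  haveI : Flat π := inferInstance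
  let x := π.base z
  have hx : IsClosed ({x} : Set X) := π.closePoints_subset_preimage_closedPoints hzc
  haveI : IsClosedImmersion (X.fromSpecResidueField x) := isClosed_singleton_iff_isClosedImmersion.mp hx
  haveI : IsClosedImmersion (π.fiberι x) :=
    MorphismProperty.pullback_fst _ _ ‹IsClosedImmersion (X.fromSpecResidueField x)›
  haveI : IsFinite (X.fromSpecResidueField x ≫ a) :=
    (isFinite_iff_locallyOfFiniteType_of_jacobsonSpace (f := X.fromSpecResidueField x ≫ a)).mpr inferInstance
  let j := π.fiberι x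
  let f := j ≫ pullback.snd a a
  haveI : IsFinite f := MorphismProperty.of_isPullback
    ((IsPullback.of_hasPullback π (X.fromSpecResidueField x)).paste_horiz (IsPullback.of_hasPullback a a).flip).flip
    ‹IsFinite (X.fromSpecResidueField x ≫ a)›
  haveI := hasLpull j
  haveI := QCohD.hasRpush j
  haveI := QCohD.hasRpush f
  haveI := hasLTensorMod (DiagKernel.pushO j)
  let F := DiagKernel.pushO (X.fromSpecResidueField x)
  have hsupp : CohB1.support F ⊆ {x} := fun y hy => by
    by_contra hne
    exact Sky.support_skyM hx hne hy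
  obtain ⟨e₀⟩ := h F (H10Coh.isCoh_push_of_isFinite (f := X.fromSpecResidueField x) _ (LeadAff.isCoh_structureModule _))
    ((Set.finite_singleton x).subset hsupp) (fun y hy => by rw [hsupp hy]; exact hx)
  obtain ⟨e₁⟩ := nonempty_pullback_pushO π x
  obtain ⟨e₂⟩ := RelTensor.nonempty_ltensorMod_congr e₁ K
  obtain ⟨e₃⟩ := FibreVanish.nonempty_ltensorMod_iso j
  obtain ⟨e₄⟩ := H25FM.nonempty_rpush_comp j (pullback.snd a a) f rfl
  let L := (DCoh.Lpull j).obj K
  have hq : DCoh.IsQCohD L := QCohD.isQCohD_lpull j (Dual.isQCohD_of_isPerfect hK)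
  let e : (DCoh.Rpush f).obj L ≅ DCoh.inD X F :=
    ((DCoh.Rpush (pullback.snd a a)).mapIso (e₂ ≪≫ e₃.app K) ≪≫ e₄.app L).symm ≪≫ e₀
  by_contra hne
  let U : X.Opens := ⟨{x}ᶜ, hx.isOpen_compl⟩
  let f' := f ∣_ U
  let g' := (f ⁻¹ᵁ U).ι
  haveI := hasLpull U.ι
  haveI := hasLpull g'
  haveI := QCohD.hasRpush f'
  haveI := QCohD.hasRpush U.ι
  haveI := QCohD.hasRpush g'
  obtain ⟨bc⟩ := FMConv.nonempty_bc_nat (C := Discrete PUnit.{1}) (f := f) (g := U.ι) (f' := f') (g' := g')
    (isPullback_morphismRestrict f U).flip (BaseChange.ti_of_flat' f U.ι)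
    ((Functor.const _).obj L) (fun _ => hq)
  have hzero : ∀ m, IsZero ((Scheme.Modules.restrictFunctor U.ι).obj (DCoh.HD (DCoh.inD X F) m)) := fun m => by
    refine H17.FPExt.isZero_of_stalk _ fun y => ?_
    have hy : U.ι.base y ∉ CohB1.support (DCoh.HD (DCoh.inD X F) m) := fun hy => by
      rcases eq_or_ne m 0 with rfl | hm
      · have hy' : U.ι.base y ∈ CohB1.support F := by
          by_contra hn
          exact Sky.support_congr
            ((DerivedCategory.singleFunctorCompHomologyFunctorIso X.Modules 0).app F).symm hn hy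
        exact y.2 (hsupp hy')
      · have hz0 : IsZero (DCoh.HD (DCoh.inD X F) m) := by
          rcases lt_or_gt_of_ne hm with h1 | h1
          · exact DerivedCategory.isZero_of_isGE _ 0 m h1
          · exact DerivedCategory.isZero_of_isLE _ 0 m h1
        exact hy (ModuleCat.subsingleton_of_isZero ((DerSch.stalkFunctor X _).map_isZero hz0))
    exact (subsingleton_restrict U.ι _ y).2 (not_not.1 hy)
  have h1 : IsZero ((DCoh.Lpull U.ι).obj ((DCoh.Rpush f).obj L)) :=
    (H17.FourierMukai.isZero_of_homology (K := (rd U.ι).obj (DCoh.inD X F)) fun m =>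
      (hzero m).of_iso (homologyRdIso U.ι _ m)).of_iso
      ((RelTensor.lpullRdIso U.ι).app _ ≪≫ (rd U.ι).mapIso e)
  have h2 : IsZero (DCoh.HD ((DCoh.Rpush f').obj ((DCoh.Lpull g').obj L)) i) :=
    (DerivedCategory.homologyFunctor _ i).map_isZero (h1.of_iso (bc.app ⟨⟨⟩⟩).symm)
  have h3 : IsZero (DCoh.HD ((DCoh.Lpull g').obj L) i) :=
    isZero_hd_of_rpush f' _ (QCohD.isQCohD_lpull g' hq) i h2
  have h4 : IsZero ((Scheme.Modules.restrictFunctor g').obj (DCoh.HD L i)) :=
    h3.of_iso ((homologyRdIso g' L i).symm ≪≫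
      (DerivedCategory.homologyFunctor _ i).mapIso ((RelTensor.lpullRdIso g').app L).symm)
  obtain ⟨q, hq'⟩ : z ∈ Set.range j.base := (Scheme.Hom.range_fiberι π x).symm ▸ (show π.base z = x from rfl)
  have hqU : q ∈ f ⁻¹ᵁ U := by
    show (f.base q) ∈ ({x}ᶜ : Set X)
    intro hfq
    exact hne ((congrArg (pullback.snd a a).base hq'.symm).trans (Set.mem_singleton_iff.1 hfq))
  haveI : Subsingleton ((DerSch.stalkFunctor (π.fiber x) q).obj (DCoh.HD L i)) :=
    show Subsingleton ((DCoh.HD L i).presheaf.stalk q) from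
      (subsingleton_restrict g' _ ⟨q, hqU⟩).1
        (show Subsingleton (((Scheme.Modules.restrictFunctor g').obj (DCoh.HD L i)).presheaf.stalk ⟨q, hqU⟩) from
          ModuleCat.subsingleton_of_isZero ((DerSch.stalkFunctor (f ⁻¹ᵁ U : Scheme.{u}) ⟨q, hqU⟩).map_isZero h4))
  exact notMem_support_of_fibre_stalk π x K hK i q (ModuleCat.isZero_of_subsingleton _) (hq'.symm ▸ hz)

end Groth.Agent.H02CA.DiagKer
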